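import Mathlib

/-!
Arithmetic for bounding the order of a group of Lie type by a power of its `p`-part.
-/

set_option autoImplicit false

namespace CfsgLib.LieOrderBound

/-- The two bounds of a group of order `X`. -/
def Small (p X : ℕ) : Prop :=
  X < p ^ (3 * X.factorization p) ∧ X ^ 3 < p ^ (8 * X.factorization p)

variable {p a q : ℕ}

/-- `X c = q ^ N P` with `c`, `P` prime to `p`. -/
theorem factorization_eq (hp : p.Prime) (hq : q = p ^ a) {X c N P : ℕ} (hX : X ≠ 0)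
    (hc : ¬ p ∣ c) (hP : ¬ p ∣ P) (h : c * X = q ^ N * P) : X.factorization p = a * N := by
  have hc0 : c ≠ 0 := fun h0 => hc (h0 ▸ dvd_zero p)
  have hP0 : P ≠ 0 := fun h0 => hP (h0 ▸ dvd_zero p)
  have hq0 : q ≠ 0 := hq ▸ pow_ne_zero _ hp.ne_zero
  have h1 := congrArg (fun n => n.factorization p) h
  simp only [Nat.factorization_mul hc0 hX, Nat.factorization_mul (pow_ne_zero N hq0) hP0,
    Finsupp.add_apply, Nat.factorization_eq_zero_of_not_dvd hc,
    Nat.factorization_eq_zero_of_not_dvd hP, Nat.factorization_pow, Finsupp.smul_apply,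
    zero_add, add_zero] at h1
  rw [h1, hq, Nat.factorization_pow, Finsupp.smul_apply, hp.factorization_self]
  simp [mul_comm]

/-- The general bound: `P < q ^ (N + r)` with `3 r ≤ 2 N`. -/
theorem small_of_formula (hp : p.Prime) (hq : q = p ^ a) {X c N P r : ℕ}
    (hX : X ≠ 0) (hc : ¬ p ∣ c) (hP : ¬ p ∣ P) (h : c * X = q ^ N * P)
    (hPlt : P < q ^ (N + r)) (hr : 3 * r ≤ 2 * N) : Small p X := by
  have hf := factorization_eq hp hq hX hc hP h
  have hc1 : 1 ≤ c := Nat.pos_of_ne_zero fun h0 => hc (h0 ▸ dvd_zero p)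
  have hq1 : 1 ≤ q := hq ▸ Nat.one_le_pow _ _ hp.pos
  have hlt : X < q ^ (N + (N + r)) :=
    calc X ≤ c * X := Nat.le_mul_of_pos_left _ hc1
      _ = q ^ N * P := h
      _ < q ^ N * q ^ (N + r) := Nat.mul_lt_mul_of_pos_left hPlt (by positivity)
      _ = q ^ (N + (N + r)) := (pow_add _ _ _).symm
  unfold Small
  rw [hf, mul_left_comm, mul_left_comm 8, pow_mul p a, pow_mul p a, ← hq]
  exact ⟨hlt.trans_le (Nat.pow_le_pow_right hq1 (by omega)),
    (Nat.pow_lt_pow_left hlt (by norm_num)).trans_le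
      (by rw [← pow_mul]; exact Nat.pow_le_pow_right hq1 (by omega))⟩

/-- The first bound only, for rank one. -/
theorem first_of_formula (hp : p.Prime) (hq : q = p ^ a) {X c P : ℕ}
    (hX : X ≠ 0) (hc : ¬ p ∣ c) (hP : ¬ p ∣ P) (h : c * X = q ^ 1 * P) (hPlt : P < q ^ 2) :
    X < p ^ (3 * X.factorization p) ∧ q = p ^ X.factorization p := by
  have hf := factorization_eq hp hq hX hc hP h
  have hc1 : 1 ≤ c := Nat.pos_of_ne_zero fun h0 => hc (h0 ▸ dvd_zero p)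
  have hq1 : 1 ≤ q := hq ▸ Nat.one_le_pow _ _ hp.pos
  rw [hf, mul_one, mul_comm, pow_mul, ← hq]
  refine ⟨?_, rfl⟩
  calc X ≤ c * X := Nat.le_mul_of_pos_left _ hc1
    _ = q ^ 1 * P := h
    _ < q ^ 1 * q ^ 2 := Nat.mul_lt_mul_of_pos_left hPlt (by positivity)
    _ = q ^ 3 := by ring

theorem not_dvd_sub (hp : p.Prime) (hpq : p ∣ q) (hq : 1 ≤ q) {d : ℕ} (hd : d ≠ 0) :
    ¬ p ∣ q ^ d - 1 := fun h => by
  have h1 := Nat.dvd_sub (hpq.trans (dvd_pow_self q hd)) h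
  rw [Nat.sub_sub_self (Nat.one_le_pow _ _ hq), Nat.dvd_one] at h1
  exact hp.ne_one h1

theorem not_dvd_add (hp : p.Prime) (hpq : p ∣ q) {d : ℕ} (hd : d ≠ 0) : ¬ p ∣ q ^ d + 1 := fun h =>
  hp.ne_one (Nat.dvd_one.1 ((Nat.dvd_add_right (hpq.trans (dvd_pow_self q hd))).1 h))

theorem not_dvd_of_dvd {c D : ℕ} (hD : ¬ p ∣ D) (hc : c ∣ D) : ¬ p ∣ c := fun h => hD (h.trans hc)

theorem not_dvd_mul (hp : p.Prime) {A B : ℕ} (hA : ¬ p ∣ A) (hB : ¬ p ∣ B) : ¬ p ∣ A * B :=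
  fun h => (hp.dvd_mul.1 h).elim hA hB

theorem not_dvd_prod (hp : p.Prime) {ι : Type*} (s : Finset ι) (f : ι → ℕ)
    (h : ∀ i ∈ s, ¬ p ∣ f i) : ¬ p ∣ ∏ i ∈ s, f i := fun hd => by
  obtain ⟨i, hi, hd'⟩ := (hp.prime.dvd_finsetProd_iff _).1 hd
  exact h i hi hd'

/-- `∏ (q ^ d_i - 1) ≤ q ^ ∑ d_i`. -/
theorem prod_sub_le (q : ℕ) {ι : Type*} (s : Finset ι) (d : ι → ℕ) :
    ∏ i ∈ s, (q ^ d i - 1) ≤ q ^ ∑ i ∈ s, d i := by
  rw [← Finset.prod_pow_eq_pow_sum]
  exact Finset.prod_le_prod (fun _ _ => Nat.zero_le _) fun _ _ => Nat.sub_le _ _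

/-- `(q^a - 1)(q^b + 1) < q^(a+b)` for `a ≤ b`. -/
theorem sub_mul_add_lt (hq : 1 ≤ q) {a b : ℕ} (hab : a ≤ b) :
    (q ^ a - 1) * (q ^ b + 1) < q ^ (a + b) := by
  have h1 : 1 ≤ q ^ a := Nat.one_le_pow _ _ hq
  have h2 : q ^ a ≤ q ^ b := Nat.pow_le_pow_right hq hab
  obtain ⟨A, hA⟩ : ∃ A, q ^ a = A + 1 := ⟨q ^ a - 1, by omega⟩
  rw [pow_add, hA, Nat.add_sub_cancel]
  nlinarith

/-- `∑_{i<m} 2(i+1) = m (m+1)`. -/
theorem sum_even (m : ℕ) : ∑ i ∈ Finset.range m, 2 * (i + 1) = m * (m + 1) := by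
  induction m with
  | zero => rfl
  | succ m ih => rw [Finset.sum_range_succ, ih]; ring

/-- `2 ∑_{i<n} (i+2) = (n+1)(n+2) - 2`. -/
theorem sum_from_two (n : ℕ) :
    2 * ∑ i ∈ Finset.range n, (i + 2) = n * (n + 3) := by
  induction n with
  | zero => rfl
  | succ n ih => rw [Finset.sum_range_succ, mul_add, ih]; ring

/-- The unitary product `∏_{i<n} (q^(i+2) - (-1)^(i+2)) < q^∑(i+2)`. -/
theorem prod_unitary_lt (hq : 1 ≤ q) : ∀ n : ℕ, 1 ≤ n →
    ∏ i ∈ Finset.range n, (if Even i then q ^ (i + 2) - 1 else q ^ (i + 2) + 1) <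
      q ^ ∑ i ∈ Finset.range n, (i + 2) := by
  have key : ∀ k : ℕ,
      ∏ i ∈ Finset.range (2 * k), (if Even i then q ^ (i + 2) - 1 else q ^ (i + 2) + 1) ≤
        q ^ ∑ i ∈ Finset.range (2 * k), (i + 2) := by
    intro k
    induction k with
    | zero => simp
    | succ k ih =>
      rw [show 2 * (k + 1) = 2 * k + 1 + 1 by ring, Finset.prod_range_succ, Finset.prod_range_succ,
        Finset.sum_range_succ, Finset.sum_range_succ, if_pos (even_two_mul k),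
        if_neg (Nat.not_even_iff_odd.2 (odd_two_mul_add_one k)), mul_assoc, add_assoc (Finset.sum _ _),
        pow_add q (Finset.sum _ _)]
      exact Nat.mul_le_mul ih (sub_mul_add_lt hq (by omega)).le
  intro n hn
  obtain ⟨k, rfl | rfl⟩ := Nat.even_or_odd' n
  · obtain ⟨j, rfl⟩ : ∃ j, k = j + 1 := ⟨k - 1, by omega⟩
    rw [show 2 * (j + 1) = 2 * j + 1 + 1 by ring, Finset.prod_range_succ, Finset.prod_range_succ,
      Finset.sum_range_succ, Finset.sum_range_succ, if_pos (even_two_mul j),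
      if_neg (Nat.not_even_iff_odd.2 (odd_two_mul_add_one j)), mul_assoc, add_assoc (Finset.sum _ _),
      pow_add q (Finset.sum _ _)]
    refine Nat.mul_lt_mul_of_le_of_lt (key j) (sub_mul_add_lt hq (by omega)) ?_
    positivity
  · rw [Finset.prod_range_succ, Finset.sum_range_succ, if_pos (even_two_mul k),
      pow_add q (Finset.sum _ _)]
    refine Nat.mul_lt_mul_of_le_of_lt (key k) (Nat.sub_lt ?_ one_pos) ?_ <;> positivity

end CfsgLib.LieOrderBound
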