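import Cfsg.Prelude.Def_LieTypeChar
import Cfsg.Agent.LieOrderBound.Basic
import Cfsg.Agent.Linear.Basic
import Cfsg.Agent.Forms4.POmegaOrders
import Cfsg.Agent.Suzuki.LieModel
import Cfsg.Agent.S0280
import Cfsg.Agent.S0246
import Cfsg.Agent.Forms.SymplecticOrder
import Cfsg.Agent.S0324

/-!
The order bounds for the classical families and the Suzuki groups.
-/

set_option autoImplicit false

namespace CfsgLib.LieOrderBound

variable {F : Type*} [Field F] [Fintype F] {p : ℕ} [CharP F p]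

theorem card_data (F : Type*) [Field F] [Fintype F] (p : ℕ) [CharP F p] :
    ∃ a, Fintype.card F = p ^ a ∧ p ∣ Fintype.card F ∧ p.Prime := by
  obtain ⟨a, hp, ha⟩ := FiniteField.card F p
  exact ⟨a, ha, ha ▸ dvd_pow_self p a.ne_zero, hp⟩

theorem root_data {q k : ℕ} (hk : k ≠ 0) (h : Fintype.card F = q ^ k) (_hF : CharP F p := ‹_›) :
    (∃ a, q = p ^ a) ∧ p ∣ q ∧ p.Prime := by
  obtain ⟨a, ha, hpd, hp⟩ := card_data F p
  obtain ⟨b, -, hb⟩ := (Nat.dvd_prime_pow hp).1 (ha ▸ h ▸ dvd_pow_self q hk : q ∣ p ^ a)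
  exact ⟨⟨b, hb⟩, hp.dvd_of_dvd_pow (h ▸ hpd), hp⟩

/-- The two bounds for `PSL_n`, `n ≥ 3`, and the first one for `n = 2`. -/
theorem psl {n : ℕ} (hn : 2 ≤ n) :
    let X := Nat.card (Matrix.ProjectiveSpecialLinearGroup (Fin n) F)
    X < p ^ (3 * X.factorization p) ∧
      ((X ^ 3 < p ^ (8 * X.factorization p)) ∨ (n = 2 ∧ Fintype.card F = p ^ X.factorization p)) := by
  intro X
  obtain ⟨a, ha, hpd, hp⟩ := card_data F p
  set q := Fintype.card F with hqdef
  have hq2 : 2 ≤ q := Fintype.one_lt_card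
  obtain ⟨n, rfl⟩ : ∃ k, n = k + 1 := ⟨n - 1, by omega⟩
  have hc : ¬ p ∣ Nat.gcd (n + 1) (q - 1) := not_dvd_of_dvd
    (not_dvd_sub hp hpd (by omega) one_ne_zero) (by rw [pow_one]; exact Nat.gcd_dvd_right _ _)
  have hform : Nat.gcd (n + 1) (q - 1) * X =
      q ^ ((n + 1) * n / 2) * ∏ i ∈ Finset.range n, (q ^ (i + 2) - 1) := by
    have h1 := CfsgLib.Linear.card_PSL_mul (n := Fin (n + 1)) (F := F)
    have h2 := CfsgLib.Linear.card_SL_mul (n := Fin (n + 1)) (F := F)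
    rw [CfsgLib.Linear.card_GL, Fintype.card_fin, CfsgLib.Linear.prod_pow_sub_pow, ← h1,
      Fintype.card_fin, Finset.prod_range_succ', Nat.add_sub_cancel] at h2
    apply Nat.eq_of_mul_eq_mul_left (show 0 < q - 1 by omega)
    rw [h2]
    simp only [pow_one, zero_add]
    ring
  have hP : ¬ p ∣ ∏ i ∈ Finset.range n, (q ^ (i + 2) - 1) :=
    not_dvd_prod hp _ _ fun i _ => not_dvd_sub hp hpd (by omega) (by omega)
  have hX : X ≠ 0 := Nat.card_pos.ne'
  have hlt : ∏ i ∈ Finset.range n, (q ^ (i + 2) - 1) < q ^ ∑ i ∈ Finset.range n, (i + 2) := by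
    rw [← Finset.prod_pow_eq_pow_sum]
    refine Finset.prod_lt_prod_of_nonempty (fun i _ => ?_) (fun i _ => Nat.sub_lt ?_ one_pos)
      ⟨0, Finset.mem_range.2 (by omega)⟩
    · have : 2 ≤ q ^ (i + 2) := hq2.trans (Nat.le_self_pow (by omega) q)
      omega
    · positivity
  rcases Nat.lt_or_ge n 2 with h | h
  · obtain rfl : n = 1 := by omega
    have h' := first_of_formula hp ha hX hc hP (by simpa using hform) (by simpa using hlt)
    exact ⟨h'.1, Or.inr ⟨rfl, h'.2⟩⟩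
  · have he := Finset.sum_range_id (n + 1)
    have hN : (∑ i ∈ Finset.range n, (i + 2)) = (n + 1) * n / 2 + n := by
      rw [← Nat.add_sub_cancel (n := n + 1) (m := 1)] at *
      have h1 := sum_from_two n
      have h2 : 2 * ((n + 1) * n / 2) = (n + 1) * n :=
        Nat.two_mul_div_two_of_even (by rw [mul_comm]; exact Nat.even_mul_succ_self n)
      simp only [Nat.add_sub_cancel] at *
      have h3 : n * (n + 3) = (n + 1) * n + 2 * n := by ring
      omega
    have h2 : 2 * ((n + 1) * n / 2) = (n + 1) * n :=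
      Nat.two_mul_div_two_of_even (by rw [mul_comm]; exact Nat.even_mul_succ_self n)
    have h3 : 3 * n ≤ (n + 1) * n := Nat.mul_le_mul_right n (by omega)
    have hs := small_of_formula (r := n) hp ha hX hc hP hform (hN ▸ hlt) (by omega)
    exact ⟨hs.1, Or.inl hs.2⟩

theorem psp {m : ℕ} (hm : 2 ≤ m) : Small p (Nat.card (Cfsg.PSp m F)) := by
  obtain ⟨a, ha, hpd, hp⟩ := card_data F p
  set q := Fintype.card F with hqdef
  have hq2 : 2 ≤ q := Fintype.one_lt_card
  have h := (Subgroup.center (Matrix.symplecticGroup (Fin m) F)).card_eq_card_quotient_mul_card_subgroup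
  rw [Cfsg.Agent.S0246.result (q := q) rfl m (by omega), CfsgLib.Forms.card_symplecticGroup,
    mul_comm (Nat.card _)] at h
  refine small_of_formula (r := m) hp ha Nat.card_pos.ne'
    (not_dvd_of_dvd (not_dvd_sub hp hpd (by omega) one_ne_zero)
      (by rw [pow_one]; exact Nat.gcd_dvd_right _ _))
    (not_dvd_prod hp _ _ fun i _ => not_dvd_sub hp hpd (by omega) (by omega)) h.symm ?_ (by nlinarith)
  rw [show m ^ 2 + m = m * (m + 1) by ring, ← sum_even, ← Finset.prod_pow_eq_pow_sum]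
  refine Finset.prod_lt_prod_of_nonempty (fun i _ => ?_) (fun i _ => Nat.sub_lt ?_ one_pos)
    ⟨0, Finset.mem_range.2 (by omega)⟩
  · have : 2 ≤ q ^ (2 * (i + 1)) := hq2.trans (Nat.le_self_pow (by omega) q)
    omega
  · positivity

theorem psu {n q : ℕ} (hF : Fintype.card F = q ^ 2) (hn : 3 ≤ n) :
    Small p (Nat.card (Cfsg.PSU n F q)) := by
  obtain ⟨⟨a, ha⟩, hpd, hp⟩ := root_data (F := F) (p := p) two_ne_zero hF
  have hq1 : 1 ≤ q := ha ▸ Nat.one_le_pow _ _ hp.pos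
  have h := Cfsg.Agent.S0280.result hF n (by omega)
  obtain ⟨n, rfl⟩ : ∃ k, n = k + 1 := ⟨n - 1, by omega⟩
  rw [Finset.prod_range_succ', Nat.add_sub_cancel] at h
  simp only [Even.zero, if_true, zero_add, pow_one] at h
  have hform : Nat.gcd (n + 1) (q + 1) * Nat.card (Cfsg.PSU (n + 1) F q) =
      q ^ ((n + 1) * n / 2) *
        ∏ i ∈ Finset.range n, (if Even i then q ^ (i + 2) - 1 else q ^ (i + 2) + 1) := by
    apply Nat.eq_of_mul_eq_mul_left (show 0 < q + 1 by omega)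
    rw [mul_left_comm, h]
    simp only [Nat.even_add_one, ite_not]
    ring
  have h2 : 2 * ((n + 1) * n / 2) = (n + 1) * n :=
    Nat.two_mul_div_two_of_even (by rw [mul_comm]; exact Nat.even_mul_succ_self n)
  have h3 : 3 * n ≤ (n + 1) * n := Nat.mul_le_mul_right n (by omega)
  refine small_of_formula (r := n) hp ha Nat.card_pos.ne'
    (not_dvd_of_dvd (not_dvd_add hp hpd one_ne_zero)
      (by rw [pow_one]; exact Nat.gcd_dvd_right _ _))
    (not_dvd_prod hp _ _ fun i _ => by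
      split_ifs
      · exact not_dvd_sub hp hpd hq1 (by omega)
      · exact not_dvd_add hp hpd (by omega)) hform ?_ (by omega)
  have hN : (∑ i ∈ Finset.range n, (i + 2)) = (n + 1) * n / 2 + n := by
    have h1 := sum_from_two n
    have h3 : n * (n + 3) = (n + 1) * n + 2 * n := by ring
    omega
  exact hN ▸ prod_unitary_lt hq1 n (by omega)

theorem pOmegaOdd {m : ℕ} (hm : 3 ≤ m) (hodd : Odd (Fintype.card F)) :
    Small p (Nat.card (Cfsg.POmega F (Cfsg.quadFormOdd m F))) := by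
  obtain ⟨a, ha, hpd, hp⟩ := card_data F p
  set q := Fintype.card F with hqdef
  have hq2 : 2 ≤ q := Fintype.one_lt_card
  have h := CfsgLib.Forms4.card_pOmegaOdd (F := F) rfl hodd m hm
  have hp2 : ¬ p ∣ 2 := fun hd => by
    rw [(Nat.prime_dvd_prime_iff_eq hp Nat.prime_two).1 hd] at hpd
    exact (Nat.not_even_iff_odd.2 hodd) (even_iff_two_dvd.2 hpd)
  have hX : Nat.card (Cfsg.POmega F (Cfsg.quadFormOdd m F)) ≠ 0 := Nat.card_pos.ne'
  refine small_of_formula (r := m) hp ha hX hp2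
    (not_dvd_prod hp _ _ fun i _ => not_dvd_sub hp hpd (by omega) (by omega)) h ?_ (by nlinarith)
  rw [show m ^ 2 + m = m * (m + 1) by ring, ← sum_even, ← Finset.prod_pow_eq_pow_sum]
  refine Finset.prod_lt_prod_of_nonempty (fun i _ => ?_) (fun i _ => Nat.sub_lt ?_ one_pos)
    ⟨0, Finset.mem_range.2 (by omega)⟩
  · have : 2 ≤ q ^ (2 * (i + 1)) := hq2.trans (Nat.le_self_pow (by omega) q)
    omega
  · positivity

theorem pOmegaPlus {m : ℕ} (hm : 4 ≤ m) :
    Small p (Nat.card (Cfsg.POmega F (Cfsg.quadFormPlus m F))) := by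
  obtain ⟨a, ha, hpd, hp⟩ := card_data F p
  set q := Fintype.card F with hqdef
  have hq1 : 1 ≤ q := Fintype.card_pos
  have h := CfsgLib.Forms4.card_pOmegaPlus (F := F) rfl m hm
  rw [mul_assoc] at h
  obtain ⟨k, rfl⟩ : ∃ k, m = k + 1 := ⟨m - 1, by omega⟩
  simp only [Nat.add_sub_cancel] at h
  refine small_of_formula (r := k + 1) hp ha Nat.card_pos.ne'
    (not_dvd_of_dvd (not_dvd_sub hp hpd hq1 (Nat.succ_ne_zero k)) (Nat.gcd_dvd_right _ _))
    (not_dvd_mul hp (not_dvd_sub hp hpd hq1 (by omega))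
      (not_dvd_prod hp _ _ fun i _ => not_dvd_sub hp hpd hq1 (by omega))) h ?_ (by nlinarith)
  rw [show (k + 1) * k + (k + 1) = (k + 1) + k * (k + 1) by ring, pow_add q (k + 1), ← sum_even k]
  exact Nat.mul_lt_mul_of_lt_of_le (Nat.sub_lt (pow_pos hq1 _) one_pos)
    (prod_sub_le q _ _) (pow_pos hq1 _)

theorem pOmegaMinus {m : ℕ} (hm : 4 ≤ m) (a' b : F)
    (hab : ∀ z₁ z₂ : F, z₁ ^ 2 + a' * z₁ * z₂ + b * z₂ ^ 2 = 0 → z₁ = 0 ∧ z₂ = 0) :
    Small p (Nat.card (Cfsg.POmega F (Cfsg.quadFormMinus (m - 1) F a' b))) := by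
  obtain ⟨a, ha, hpd, hp⟩ := card_data F p
  set q := Fintype.card F with hqdef
  have hq1 : 1 ≤ q := Fintype.card_pos
  have h := CfsgLib.Forms4.card_pOmegaMinus (F := F) rfl m hm a' b hab
  rw [mul_assoc] at h
  obtain ⟨k, rfl⟩ : ∃ k, m = k + 1 := ⟨m - 1, by omega⟩
  simp only [Nat.add_sub_cancel] at h ⊢
  refine small_of_formula (r := k + 1) hp ha Nat.card_pos.ne'
    (not_dvd_of_dvd (not_dvd_add hp hpd (Nat.succ_ne_zero k)) (Nat.gcd_dvd_right _ _))
    (not_dvd_mul hp (not_dvd_add hp hpd (by omega))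
      (not_dvd_prod hp _ _ fun i _ => not_dvd_sub hp hpd hq1 (by omega))) h ?_ (by nlinarith)
  obtain ⟨j, rfl⟩ : ∃ j, k = j + 1 := ⟨k - 1, by omega⟩
  have hs : (j + 1 + 1) * (j + 1) + (j + 1 + 1) =
      (∑ i ∈ Finset.range j, 2 * (i + 1 + 1)) + (2 + (j + 1 + 1)) := by
    have h1 := sum_even (j + 1)
    rw [Finset.sum_range_succ'] at h1
    rw [mul_comm (j + 1 + 1) (j + 1)]
    omega
  rw [Finset.prod_range_succ', mul_comm, mul_assoc, hs, pow_add q (Finset.sum _ _)]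
  exact Nat.mul_lt_mul_of_le_of_lt (prod_sub_le q _ _) (sub_mul_add_lt hq1 (by omega))
    (pow_pos hq1 _)

theorem suzuki {m : ℕ} (hm : 1 ≤ m) (hF : Fintype.card F = 2 ^ (2 * m + 1)) :
    Small 2 (Nat.card (Cfsg.Lie.Sz F (2 ^ (m + 1)))) := by
  have hS : CfsgLib.Suzuki.SzField F m := ⟨hm, hF⟩
  rw [← Nat.card_congr (CfsgLib.Suzuki.lieSzEquiv hS).toEquiv, Cfsg.Agent.S0324.result hm hF,
    mul_assoc]
  set q := 2 ^ (2 * m + 1) with hq
  have hq1 : 2 ≤ q := Nat.le_self_pow (by omega) 2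
  have hpd : 2 ∣ q := dvd_pow_self 2 (by omega)
  have hP : ¬ 2 ∣ (q ^ 2 + 1) * (q - 1) := not_dvd_mul Nat.prime_two
    (not_dvd_add Nat.prime_two hpd two_ne_zero)
    (by simpa using not_dvd_sub Nat.prime_two hpd (by omega) one_ne_zero)
  refine small_of_formula (r := 1) (c := 1) (N := 2) Nat.prime_two hq ?_ (by norm_num) hP
    (one_mul _) ?_ (by norm_num)
  · intro h0
    have := mul_pos (pow_pos (show 0 < q by omega) 2)
      (mul_pos (show 0 < q ^ 2 + 1 by omega) (show 0 < q - 1 by omega))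
    omega
  · rw [mul_comm]
    have := sub_mul_add_lt (q := q) (by omega) (a := 1) (b := 2) (by omega)
    rwa [pow_one] at this

end CfsgLib.LieOrderBound
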