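import Cfsg.Agent.LieOrderBound.Basic
import Cfsg.Agent.S1059
import Cfsg.Agent.S1062
import Cfsg.Agent.S1063
import Cfsg.Agent.S1064
import Cfsg.Agent.S1065

/-!
The order bounds for the exceptional Chevalley groups, and for the twisted groups from their orders.
-/

set_option autoImplicit false

namespace CfsgLib.LieOrderBound

variable {p a q : ℕ}

theorem small_six (hp : p.Prime) (hq : q = p ^ a) (hpd : p ∣ q) {X c N r : ℕ} (d : List ℕ)
    (hX : X ≠ 0) (hc : ¬ p ∣ c) (hd : ∀ e ∈ d, e ≠ 0) (hd0 : d ≠ [])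
    (h : c * X = q ^ N * (d.map fun e => q ^ e - 1).prod) (hsum : d.sum ≤ N + r) (hr : 3 * r ≤ 2 * N) :
    Small p X := by
  have hq1 : 1 ≤ q := hq ▸ Nat.one_le_pow _ _ hp.pos
  have hndvd : ∀ l : List ℕ, (∀ e ∈ l, e ≠ 0) → ¬ p ∣ (l.map fun e => q ^ e - 1).prod := by
    intro l hl
    induction l with
    | nil => simpa using hp.ne_one
    | cons e l ih =>
      rw [List.map_cons, List.prod_cons]
      exact not_dvd_mul hp (not_dvd_sub hp hpd hq1 (hl e (by simp)))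
        (ih fun e he => hl e (by simp [he]))
  have hle : ∀ l : List ℕ, (l.map fun e => q ^ e - 1).prod ≤ q ^ l.sum := by
    intro l
    induction l with
    | nil => simp
    | cons e l ih =>
      rw [List.map_cons, List.prod_cons, List.sum_cons, pow_add]
      exact Nat.mul_le_mul (Nat.sub_le _ _) ih
  refine small_of_formula (r := r) hp hq hX hc (hndvd d hd) h ?_ hr
  obtain ⟨e, l, rfl⟩ := List.exists_cons_of_ne_nil hd0
  refine lt_of_lt_of_le ?_ (Nat.pow_le_pow_right hq1 hsum)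
  rw [List.map_cons, List.prod_cons, List.sum_cons, pow_add]
  exact Nat.mul_lt_mul_of_lt_of_le (Nat.sub_lt (pow_pos hq1 _) one_pos) (hle l) (pow_pos hq1 _)

variable {F : Type*} [Field F] [Fintype F] [CharP F p]

theorem chev_data (F : Type*) [Field F] [Fintype F] (p : ℕ) [CharP F p] :
    ∃ a, Fintype.card F = p ^ a ∧ p ∣ Fintype.card F ∧ p.Prime ∧
      ∀ k, ¬ p ∣ Nat.gcd k (Fintype.card F - 1) := by
  obtain ⟨a, hp, ha⟩ := FiniteField.card F p
  have hpd : p ∣ Fintype.card F := ha ▸ dvd_pow_self p a.ne_zero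
  refine ⟨a, ha, hpd, hp, fun k => not_dvd_of_dvd ?_ (Nat.gcd_dvd_right _ _)⟩
  simpa using not_dvd_sub hp hpd Fintype.card_pos one_ne_zero

theorem chevG2 : Small p (Nat.card ↥(Cfsg.Lie.chevG2.group F)) := by
  obtain ⟨a, ha, hpd, hp, -⟩ := chev_data F p
  refine small_six hp ha hpd (c := 1) (N := 6) (r := 2) [2, 6] Nat.card_pos.ne'
    (by simpa using hp.ne_one) (by simp) (by simp) ?_ (by simp) (by simp)
  simp [Cfsg.Agent.S1059.result (F := F) rfl, mul_assoc]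

theorem chevF4 : Small p (Nat.card ↥(Cfsg.Lie.chevF4.group F)) := by
  obtain ⟨a, ha, hpd, hp, -⟩ := chev_data F p
  refine small_six hp ha hpd (c := 1) (N := 24) (r := 4) [2, 6, 8, 12] Nat.card_pos.ne'
    (by simpa using hp.ne_one) (by simp) (by simp) ?_ (by simp) (by simp)
  simp [Cfsg.Agent.S1062.result (F := F) rfl, mul_assoc]

theorem chevE6 : Small p (Nat.card ↥(Cfsg.Lie.chevE6.group F)) := by
  obtain ⟨a, ha, hpd, hp, hc⟩ := chev_data F p
  refine small_six hp ha hpd (N := 36) (r := 6) [2, 5, 6, 8, 9, 12] Nat.card_pos.ne'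
    (hc 3) (by simp) (by simp) ?_ (by simp) (by simp)
  simp [Cfsg.Agent.S1063.result (F := F) rfl, mul_assoc]

theorem chevE7 : Small p (Nat.card ↥(Cfsg.Lie.chevE7.group F)) := by
  obtain ⟨a, ha, hpd, hp, hc⟩ := chev_data F p
  refine small_six hp ha hpd (N := 63) (r := 7) [2, 6, 8, 10, 12, 14, 18] Nat.card_pos.ne'
    (hc 2) (by simp) (by simp) ?_ (by simp) (by simp)
  simp [Cfsg.Agent.S1064.result (F := F) rfl, mul_assoc]

theorem chevE8 : Small p (Nat.card ↥(Cfsg.Lie.chevE8.group F)) := by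
  obtain ⟨a, ha, hpd, hp, -⟩ := chev_data F p
  refine small_six hp ha hpd (c := 1) (N := 120) (r := 8) [2, 8, 12, 14, 18, 20, 24, 30]
    Nat.card_pos.ne' (by simpa using hp.ne_one) (by simp) (by simp) ?_ (by simp) (by simp)
  simp [Cfsg.Agent.S1065.result (F := F) rfl, mul_assoc]

/-- `²E₆(q)` from its order. -/
theorem twistedE6_of_order (hp : p.Prime) (hq : q = p ^ a) (hpd : p ∣ q) {X : ℕ}
    (h : Nat.gcd 3 (q + 1) * X =
      q ^ 36 * (q ^ 2 - 1) * (q ^ 5 + 1) * (q ^ 6 - 1) * (q ^ 8 - 1) * (q ^ 9 + 1) * (q ^ 12 - 1))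
    (hX : X ≠ 0) : Small p X := by
  have hq1 : 1 ≤ q := hq ▸ Nat.one_le_pow _ _ hp.pos
  refine small_of_formula (c := Nat.gcd 3 (q + 1)) (N := 36) (r := 6) hp hq hX
    (not_dvd_of_dvd (not_dvd_add hp hpd one_ne_zero) (by rw [pow_one]; exact Nat.gcd_dvd_right _ _))
    (P := ((q ^ 2 - 1) * (q ^ 5 + 1)) * ((q ^ 6 - 1) * (q ^ 12 - 1)) * ((q ^ 8 - 1) * (q ^ 9 + 1)))
    ?_ (by rw [h]; ring) ?_ (by norm_num)
  · exact not_dvd_mul hp (not_dvd_mul hp
      (not_dvd_mul hp (not_dvd_sub hp hpd hq1 (by norm_num)) (not_dvd_add hp hpd (by norm_num)))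
      (not_dvd_mul hp (not_dvd_sub hp hpd hq1 (by norm_num)) (not_dvd_sub hp hpd hq1 (by norm_num))))
      (not_dvd_mul hp (not_dvd_sub hp hpd hq1 (by norm_num)) (not_dvd_add hp hpd (by norm_num)))
  · rw [show 36 + 6 = (2 + 5) + (6 + 12) + (8 + 9) by norm_num, pow_add q (2 + 5 + (6 + 12)),
      pow_add q (2 + 5)]
    refine Nat.mul_lt_mul_of_le_of_lt (Nat.mul_le_mul (sub_mul_add_lt hq1 (by norm_num)).le ?_)
      (sub_mul_add_lt hq1 (by norm_num)) (mul_pos (pow_pos hq1 _) (pow_pos hq1 _))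
    rw [pow_add]
    exact Nat.mul_le_mul (Nat.sub_le _ _) (Nat.sub_le _ _)

/-- `³D₄(q)` from its order. -/
theorem twistedD4_of_order (hp : p.Prime) (hq : q = p ^ a) (hpd : p ∣ q) {X : ℕ}
    (h : X = q ^ 12 * (q ^ 2 - 1) * (q ^ 6 - 1) * (q ^ 8 + q ^ 4 + 1)) (hX : X ≠ 0) : Small p X := by
  have hq1 : 1 ≤ q := hq ▸ Nat.one_le_pow _ _ hp.pos
  refine small_of_formula (c := 1) (N := 12) (r := 4) hp hq hX (by simpa using hp.ne_one)
    (P := (q ^ 2 - 1) * (q ^ 8 + q ^ 4 + 1) * (q ^ 6 - 1)) ?_ (by rw [one_mul, h]; ring) ?_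
    (by norm_num)
  · refine not_dvd_mul hp (not_dvd_mul hp (not_dvd_sub hp hpd hq1 two_ne_zero) fun hd => ?_)
      (not_dvd_sub hp hpd hq1 (by norm_num))
    exact hp.ne_one (Nat.dvd_one.1 ((Nat.dvd_add_right ((hpd.trans (dvd_pow_self q (by norm_num :
      (8 : ℕ) ≠ 0))).add (hpd.trans (dvd_pow_self q (by norm_num : (4 : ℕ) ≠ 0))))).1 hd))
  · rw [show 12 + 4 = 10 + 6 by norm_num, pow_add q 10]
    refine Nat.mul_lt_mul_of_le_of_lt ?_ (Nat.sub_lt (pow_pos hq1 _) one_pos) (pow_pos hq1 _)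
    obtain ⟨A, hA⟩ : ∃ A, q ^ 2 = A + 1 := ⟨q ^ 2 - 1, by have := pow_pos (show 0 < q from hq1) 2; omega⟩
    rw [show q ^ 10 = (q ^ 2) ^ 5 by ring, show q ^ 8 = (q ^ 2) ^ 4 by ring,
      show q ^ 4 = (q ^ 2) ^ 2 by ring, hA, Nat.add_sub_cancel]
    ring_nf
    omega

/-- `²F₄(q)` from its order. -/
theorem twistedF4_of_order {m : ℕ} {X : ℕ} (hX : X ≠ 0)
    (h : X = (2 ^ (2 * m + 1)) ^ 12 * (2 ^ (2 * m + 1) - 1) * ((2 ^ (2 * m + 1)) ^ 3 + 1) *
      ((2 ^ (2 * m + 1)) ^ 4 - 1) * ((2 ^ (2 * m + 1)) ^ 6 + 1)) : Small 2 X := by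
  set q := 2 ^ (2 * m + 1) with hqd
  have hp := Nat.prime_two
  have hq1 : 1 ≤ q := Nat.one_le_pow _ _ (by norm_num)
  have hpd : 2 ∣ q := dvd_pow_self 2 (by omega)
  refine small_of_formula (c := 1) (N := 12) (r := 2) hp hqd hX (by norm_num)
    (P := ((q ^ 1 - 1) * (q ^ 3 + 1)) * ((q ^ 4 - 1) * (q ^ 6 + 1))) ?_
    (by rw [one_mul, h, pow_one]; ring) ?_ (by norm_num)
  · exact not_dvd_mul hp
      (not_dvd_mul hp (not_dvd_sub hp hpd hq1 one_ne_zero) (not_dvd_add hp hpd (by norm_num)))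
      (not_dvd_mul hp (not_dvd_sub hp hpd hq1 (by norm_num)) (not_dvd_add hp hpd (by norm_num)))
  · rw [show 12 + 2 = (1 + 3) + (4 + 6) by norm_num, pow_add q (1 + 3)]
    exact Nat.mul_lt_mul_of_le_of_lt (sub_mul_add_lt hq1 (by norm_num)).le
      (sub_mul_add_lt hq1 (by norm_num)) (pow_pos hq1 _)

/-- `²G₂(q)` from its order. -/
theorem twistedG2_of_order {m : ℕ} {X : ℕ} (hX : X ≠ 0)
    (h : X = (3 ^ (2 * m + 1)) ^ 3 * (3 ^ (2 * m + 1) - 1) * ((3 ^ (2 * m + 1)) ^ 3 + 1)) :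
    Small 3 X := by
  set q := 3 ^ (2 * m + 1) with hqd
  have hp := Nat.prime_three
  have hq1 : 1 ≤ q := Nat.one_le_pow _ _ (by norm_num)
  have hpd : 3 ∣ q := dvd_pow_self 3 (by omega)
  refine small_of_formula (c := 1) (N := 3) (r := 1) hp hqd hX (by norm_num)
    (P := (q ^ 1 - 1) * (q ^ 3 + 1)) ?_ (by rw [one_mul, h, pow_one]; ring)
    (sub_mul_add_lt hq1 (by norm_num)) (by norm_num)
  exact not_dvd_mul hp (not_dvd_sub hp hpd hq1 one_ne_zero) (not_dvd_add hp hpd (by norm_num))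

end CfsgLib.LieOrderBound
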