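import Cfsg.Agent.LieOrderBound.Classical
import Cfsg.Agent.LieOrderBound.Exceptional

/-!
The order bounds for all groups of Lie type, given the orders of the four twisted families.
-/

set_option autoImplicit false

namespace CfsgLib.LieOrderBound

open Cfsg

/-- The orders of the twisted groups, as used below. -/
structure TwistedOrders : Prop where
  e6 : ∀ (K : Type) [Field K] [Fintype K] (q : ℕ), IsPrimePow q → Fintype.card K = q ^ 2 →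
    Nat.gcd 3 (q + 1) * Nat.card ↥(Cfsg.Lie.twistedE6 K q) =
      q ^ 36 * (q ^ 2 - 1) * (q ^ 5 + 1) * (q ^ 6 - 1) * (q ^ 8 - 1) * (q ^ 9 + 1) * (q ^ 12 - 1)
  d4 : ∀ (K : Type) [Field K] [Fintype K] (q : ℕ), IsPrimePow q → Fintype.card K = q ^ 3 →
    Nat.card ↥(Cfsg.Lie.twistedD4 K q) = q ^ 12 * (q ^ 2 - 1) * (q ^ 6 - 1) * (q ^ 8 + q ^ 4 + 1)
  f4 : ∀ (K : Type) [Field K] [Fintype K] (m : ℕ), Fintype.card K = 2 ^ (2 * m + 1) →
    Nat.card ↥(Cfsg.Lie.twistedF4 K (2 ^ m)) =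
      (2 ^ (2 * m + 1)) ^ 12 * (2 ^ (2 * m + 1) - 1) * ((2 ^ (2 * m + 1)) ^ 3 + 1) *
        ((2 ^ (2 * m + 1)) ^ 4 - 1) * ((2 ^ (2 * m + 1)) ^ 6 + 1)
  g2 : ∀ (K : Type) [Field K] [Fintype K] (m : ℕ), Fintype.card K = 3 ^ (2 * m + 1) →
    Nat.card ↥(Cfsg.Lie.twistedG2 K (3 ^ m)) =
      (3 ^ (2 * m + 1)) ^ 3 * (3 ^ (2 * m + 1) - 1) * ((3 ^ (2 * m + 1)) ^ 3 + 1)

theorem main (T : TwistedOrders) {G : Type*} [Group G] [Finite G] (p : ℕ)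
    (hG : Cfsg.IsLieTypeChar p G) :
    Nat.card G < p ^ (3 * (Nat.card G).factorization p) ∧
      ((¬ ∃ (F : Type) (_ : Field F) (_ : Fintype F), Fintype.card F = p ^ (Nat.card G).factorization p ∧
          Nonempty (G ≃* Matrix.ProjectiveSpecialLinearGroup (Fin 2) F)) →
        Nat.card G ^ 3 < p ^ (8 * (Nat.card G).factorization p)) := by
  suffices h : Small p (Nat.card G) ∨ (Nat.card G < p ^ (3 * (Nat.card G).factorization p) ∧
      ∃ (F : Type) (_ : Field F) (_ : Fintype F), Fintype.card F = p ^ (Nat.card G).factorization p ∧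
        Nonempty (G ≃* Matrix.ProjectiveSpecialLinearGroup (Fin 2) F)) by
    rcases h with h | ⟨h1, h2⟩
    · exact ⟨h.1, fun _ => h.2⟩
    · exact ⟨h1, fun hn => absurd h2 hn⟩
  rcases hG with h | h | h | h | h | h | h | h | h | h | h
  · obtain ⟨F, iF, iFin, iC, n, hn, -, ⟨e⟩⟩ := h
    rw [Nat.card_congr e.toEquiv]
    obtain ⟨h1, h2 | ⟨rfl, hF⟩⟩ := psl (F := F) (p := p) hn
    · exact Or.inl ⟨h1, h2⟩
    · exact Or.inr ⟨h1, F, iF, iFin, hF, ⟨e⟩⟩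
  · obtain ⟨F, _, _, _, m, hm, -, ⟨e⟩⟩ := h
    rw [Nat.card_congr e.toEquiv]
    exact Or.inl (psp hm)
  · obtain ⟨F, _, _, _, n, q, hF, hn, -, ⟨e⟩⟩ := h
    rw [Nat.card_congr e.toEquiv]
    exact Or.inl (psu hF hn)
  · obtain ⟨F, _, _, _, m, hm, hodd, ⟨e⟩⟩ := h
    rw [Nat.card_congr e.toEquiv]
    exact Or.inl (pOmegaOdd hm hodd)
  · obtain ⟨F, _, _, _, m, hm, ⟨e⟩⟩ := h
    rw [Nat.card_congr e.toEquiv]
    exact Or.inl (pOmegaPlus hm)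
  · obtain ⟨F, _, _, _, m, a, b, hm, hab, ⟨e⟩⟩ := h
    rw [Nat.card_congr e.toEquiv]
    exact Or.inl (pOmegaMinus hm a b hab)
  · obtain ⟨F, _, _, _, h⟩ := h
    rcases h with ⟨-, ⟨e⟩⟩ | ⟨⟨e⟩⟩ | ⟨⟨e⟩⟩ | ⟨⟨e⟩⟩ | ⟨⟨e⟩⟩ <;> rw [Nat.card_congr e.toEquiv]
    · exact Or.inl chevG2
    · exact Or.inl chevF4
    · exact Or.inl chevE6
    · exact Or.inl chevE7
    · exact Or.inl chevE8
  · obtain ⟨K, _, _, _, q, hq, h | h⟩ := h
    · obtain ⟨hK, ⟨e⟩⟩ := h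
      rw [Nat.card_congr e.toEquiv]
      obtain ⟨⟨a, ha⟩, hpd, hp⟩ := root_data (F := K) (p := p) two_ne_zero hK
      have hne : Nat.card ↥(Cfsg.Lie.twistedE6 K q) ≠ 0 := by
        rw [← Nat.card_congr e.toEquiv]; exact Nat.card_pos.ne'
      exact Or.inl (twistedE6_of_order hp ha hpd (T.e6 K q hq hK) hne)
    · obtain ⟨hK, ⟨e⟩⟩ := h
      rw [Nat.card_congr e.toEquiv]
      obtain ⟨⟨a, ha⟩, hpd, hp⟩ := root_data (F := K) (p := p) three_ne_zero hK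
      have hne : Nat.card ↥(Cfsg.Lie.twistedD4 K q) ≠ 0 := by
        rw [← Nat.card_congr e.toEquiv]; exact Nat.card_pos.ne'
      exact Or.inl (twistedD4_of_order hp ha hpd (T.d4 K q hq hK) hne)
  · obtain ⟨rfl, F, _, _, m, hm, hF, ⟨e⟩⟩ := h
    rw [Nat.card_congr e.toEquiv]
    exact Or.inl (suzuki hm hF)
  · obtain ⟨rfl, K, _, _, m, hm, hK, ⟨e⟩⟩ := h
    refine Or.inl ?_
    exact twistedF4_of_order (m := m) Nat.card_pos.ne' (by rw [Nat.card_congr e.toEquiv, T.f4 K m hK])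
  · obtain ⟨rfl, K, _, _, m, hm, hK, ⟨e⟩⟩ := h
    refine Or.inl ?_
    exact twistedG2_of_order (m := m) Nat.card_pos.ne' (by rw [Nat.card_congr e.toEquiv, T.g2 K m hK])

end CfsgLib.LieOrderBound
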